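import Cfsg.Agent.H956.Co1P.Dat
import Cfsg.Agent.H83.Co.RealDef
import Cfsg.Agent.S0397
import Cfsg.Agent.S0398
import Cfsg.Prelude.Def_Spor_Conway

/-!
# The Sylow 3-subgroup of `Co₁` and its fusion data (helper956; tasks D3, D4 of S5227)
-/

set_option autoImplicit false
set_option maxRecDepth 20000
set_option linter.style.longLine false

namespace Cfsg.Agent.H956.Co1P

open Cfsg Cfsg.Agent.H776.Co Cfsg.Agent.H776.Co.P Cfsg.Agent.H83.Co

theorem finite_Co0 : Finite Co0 :=
  Nat.finite_of_card_ne_zero (by rw [Cfsg.Agent.S0397.result]; norm_num)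

local instance factThree : Fact (Nat.Prime 3) := ⟨Nat.prime_three⟩

theorem fact_aux {n : ℕ} {m : ℕ} (h : n = 3 ^ 9 * m) (hm : ¬ 3 ∣ m) : n.factorization 3 = 9 := by
  have hm0 : m ≠ 0 := by rintro rfl; exact hm (dvd_zero 3)
  rw [h, Nat.factorization_mul (by norm_num) hm0, Finsupp.add_apply, Nat.Prime.factorization_pow Nat.prime_three,
    Finsupp.single_eq_same, Nat.factorization_eq_zero_of_not_dvd hm]

theorem card_range {G : Type*} [Group G] {φ : P →* G} (h : Function.Injective φ) : Nat.card φ.range = 3 ^ 9 := by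
  rw [← card_P]
  exact (Nat.card_congr (MonoidHom.ofInjective h).toEquiv).symm

theorem exists_sylow {G : Type*} [Group G] [Finite G] {φ : P →* G} (h : Function.Injective φ) {m : ℕ}
    (hc : Nat.card G = 3 ^ 9 * m) (hm : ¬ 3 ∣ m) : ∃ T : Sylow 3 G, (T : Subgroup G) = φ.range :=
  ⟨Sylow.ofCard φ.range (by rw [card_range h, fact_aux hc hm]), rfl⟩

theorem real : RealData 2 True Co0 where
  ex := by
    have := finite_Co0
    refine ⟨dat.hom, dat.injective,
      exists_sylow dat.injective (m := 422473891840000) (by rw [Cfsg.Agent.S0397.result]; norm_num) (by norm_num),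
      ⟨e 11, fun x => ?_⟩, ⟨e 12, fun x => ?_⟩, ⟨e 13, fun x hx => ?_⟩, ⟨e 14, fun x hx => ?_⟩, ⟨e 15, fun x hx => ?_⟩,
      fun _ => ⟨e 10, fun x => ?_⟩, fun h => absurd trivial h⟩
    · exact agree (R := ⊤) (fun x _ y _ => tor_mul (by norm_num) (by norm_num) x y) (e 11)
        (fun i _ => chk_spec (c_11 i)) trivial trivial trivial trivial trivial trivial (Or.inr trivial)
        (Or.inr trivial) (Or.inr trivial)
    · exact agree (R := ⊤) (fun x _ y _ => tor_mul (by norm_num) (by norm_num) x y) (e 12)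
        (fun i _ => chk_spec (c_12 i)) trivial trivial trivial trivial trivial trivial (Or.inr trivial)
        (Or.inr trivial) (Or.inr trivial)
    · exact agree (R := R1) (fun x hx y hy => w1_mul hx hy) (e 13)
        (fun i hi => chk_spec (c_13 i (by rintro rfl; exact absurd (show (1 : ZMod 3) = 0 from hi) (by decide))))
        rfl rfl rfl rfl rfl rfl (Or.inr rfl) (Or.inr rfl) (Or.inl hx)
    · exact agree (R := R2) (fun x hx y hy => w2_mul 2 hx hy) (e 14)
        (fun i hi => chk_spec (c_14 i (by rintro rfl; exact absurd (show (1 : ZMod 3) = 0 from hi) (by decide))))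
        rfl rfl rfl rfl rfl rfl (Or.inr rfl) (Or.inl hx) (Or.inr rfl)
    · exact agree (R := R3) (fun x hx y hy => w3_mul hx hy) (e 15)
        (fun i hi => chk_spec (c_15 i (by rintro rfl; exact absurd (show (1 : ZMod 3) = 0 from hi) (by decide))))
        rfl rfl rfl rfl rfl rfl (Or.inl hx) (Or.inr rfl) (Or.inr rfl)
    · exact agree (R := ⊤) (fun x _ y _ => tor_mul (by norm_num) (by norm_num) x y) (e 10)
        (fun i _ => chk_spec (c_10 i)) trivial trivial trivial trivial trivial trivial (Or.inr trivial)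
        (Or.inr trivial) (Or.inr trivial)

/-- D3 -/
theorem real_co1 : ∃ (G0 : Type) (_ : Group G0) (_ : Finite G0), RealData 2 True G0 :=
  ⟨Co0, inferInstance, finite_Co0, real⟩

/-- D4 -/
theorem sylow_co1 (T : Sylow 3 Cfsg.Spor.Co1) : Nonempty (P ≃* ↥(T : Subgroup Cfsg.Spor.Co1)) := by
  have := finite_Co0
  have : Finite Cfsg.Spor.Co1 := inferInstance
  have hz : Nat.card (Subgroup.center Co0) = 2 := Cfsg.Agent.S0398.result
  have hcard : Nat.card Cfsg.Spor.Co1 = 3 ^ 9 * 211236945920000 := by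
    have h : Nat.card Co0 = Nat.card Cfsg.Spor.Co1 * Nat.card (Subgroup.center Co0) :=
      Subgroup.card_eq_card_quotient_mul_card_subgroup (Subgroup.center Co0)
    rw [Cfsg.Agent.S0397.result, hz] at h
    norm_num
    omega
  set ψ : P →* Cfsg.Spor.Co1 := (QuotientGroup.mk' (Subgroup.center Co0)).comp dat.hom with hψ
  have hinj : Function.Injective ψ := by
    rw [injective_iff_map_eq_one]
    intro p hp
    have h1 : dat.hom p ∈ Subgroup.center Co0 := by
      rw [← QuotientGroup.eq_one_iff]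
      exact hp
    have h2 : dat.hom (p ^ 2) = 1 := by
      rw [map_pow]
      have h3 := pow_card_eq_one' (G := Subgroup.center Co0) (x := ⟨dat.hom p, h1⟩)
      rw [hz] at h3
      exact congrArg Subtype.val h3
    have h4 : p ^ 2 = 1 := dat.injective (h2.trans (map_one _).symm)
    have h5 : p ^ (3 ^ 9) = 1 := by rw [← card_P]; exact pow_card_eq_one'
    have h6 : p ^ (3 ^ 9) = p := by
      rw [show (3 : ℕ) ^ 9 = 2 * 9841 + 1 by norm_num, pow_succ, pow_mul, h4, one_pow, one_mul]
    rw [← h6, h5]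
  obtain ⟨T', hT'⟩ := exists_sylow hinj hcard (by norm_num)
  exact ⟨((MonoidHom.ofInjective hinj).trans (MulEquiv.subgroupCongr hT'.symm)).trans (Sylow.equiv T' T)⟩

end Cfsg.Agent.H956.Co1P
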