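import Cfsg.Agent.LThreeCo1.Ev

/-!
# Explicit elements of `Co0` (helper956; generated)
-/

set_option autoImplicit false
set_option maxRecDepth 20000

namespace Cfsg.Agent.H956.Co1P

open Cfsg.Agent.LThreeCo1.Ev Cfsg.Agent.SporadicStructure.Co0Matrix Cfsg.Agent.CoOneType.CoEval

/-- matrix -/
def N1 : List (List ℤ) := [
  [2, 0, -2, 0, 0, 2, 0, 2, 0, -2, 0, 0, 6, 0, 0, 0, 0, 0, 0, 0, 0, 0, -2, 2],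
  [0, 2, 0, 2, 2, 0, 2, 0, -2, 0, 2, -2, 0, -2, -2, -2, -2, 2, 2, 2, -2, -2, 0, 0],
  [2, 0, -2, 0, 0, 2, 0, 2, 0, 6, 0, 0, -2, 0, 0, 0, 0, 0, 0, 0, 0, 0, -2, 2],
  [0, -2, 0, 2, -2, 0, -2, 0, 2, 0, 2, -2, 0, 2, -2, 2, 2, -2, 2, 2, -2, -2, 0, 0],
  [0, -2, 0, -2, -2, 0, -2, 0, -2, 0, -2, 2, 0, -2, 2, -2, -2, -2, 2, 2, -2, -2, 0, 0],
  [-2, 0, 2, 0, 0, -2, 0, 6, 0, 2, 0, 0, 2, 0, 0, 0, 0, 0, 0, 0, 0, 0, 2, -2],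
  [0, -2, 0, 2, -2, 0, 2, 0, 2, 0, 2, 2, 0, -2, 2, 2, -2, 2, -2, -2, -2, -2, 0, 0],
  [-2, 0, 2, 0, 0, -2, 0, -2, 0, 2, 0, 0, 2, 0, 0, 0, 0, 0, 0, 0, 0, 0, 2, 6],
  [0, 2, 0, 2, -2, 0, 2, 0, -2, 0, -2, -2, 0, 2, 2, 2, -2, -2, 2, -2, -2, 2, 0, 0],
  [2, 0, -2, 0, 0, 2, 0, 2, 0, -2, 0, 0, -2, 0, 0, 0, 0, 0, 0, 0, 0, 0, 6, 2],
  [0, 2, 0, -2, 2, 0, 2, 0, 2, 0, -2, 2, 0, 2, 2, 2, 2, 2, 2, 2, -2, -2, 0, 0],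
  [0, 2, 0, 2, 2, 0, -2, 0, -2, 0, 2, 2, 0, 2, 2, -2, 2, -2, -2, -2, -2, -2, 0, 0],
  [6, 0, 2, 0, 0, -2, 0, -2, 0, 2, 0, 0, 2, 0, 0, 0, 0, 0, 0, 0, 0, 0, 2, -2],
  [0, -2, 0, 2, 2, 0, 2, 0, -2, 0, -2, 2, 0, -2, -2, 2, 2, -2, 2, -2, 2, -2, 0, 0],
  [0, -2, 0, -2, -2, 0, 2, 0, -2, 0, -2, -2, 0, 2, -2, -2, 2, 2, -2, -2, -2, -2, 0, 0],
  [0, 2, 0, 2, -2, 0, 2, 0, 2, 0, -2, -2, 0, -2, 2, -2, 2, -2, -2, 2, 2, -2, 0, 0],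
  [0, -2, 0, 2, 2, 0, 2, 0, 2, 0, -2, 2, 0, 2, -2, -2, -2, -2, -2, 2, -2, 2, 0, 0],
  [0, 2, 0, -2, 2, 0, -2, 0, 2, 0, -2, -2, 0, -2, -2, 2, -2, -2, -2, -2, -2, -2, 0, 0],
  [0, 2, 0, 2, -2, 0, -2, 0, -2, 0, -2, 2, 0, -2, -2, 2, 2, 2, -2, 2, -2, 2, 0, 0],
  [0, 2, 0, 2, -2, 0, -2, 0, 2, 0, -2, 2, 0, 2, -2, -2, -2, 2, 2, -2, 2, -2, 0, 0],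
  [0, -2, 0, 2, 2, 0, -2, 0, 2, 0, -2, -2, 0, -2, 2, -2, 2, 2, 2, -2, -2, 2, 0, 0],
  [0, -2, 0, 2, 2, 0, -2, 0, -2, 0, -2, -2, 0, 2, 2, 2, -2, 2, -2, 2, 2, -2, 0, 0],
  [2, 0, 6, 0, 0, 2, 0, 2, 0, -2, 0, 0, -2, 0, 0, 0, 0, 0, 0, 0, 0, 0, -2, 2],
  [-2, 0, 2, 0, 0, 6, 0, -2, 0, 2, 0, 0, 2, 0, 0, 0, 0, 0, 0, 0, 0, 0, 2, -2]]

theorem okN1 : Ok N1 (tr N1) := Cfsg.Agent.CoOneType.CoFast.ok_of_okZ (by decide +kernel)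

/-- matrix -/
def N2 : List (List ℤ) := [
  [8, 0, 0, 0, 0, 0, 0, 0, 0, 0, 0, 0, 0, 0, 0, 0, 0, 0, 0, 0, 0, 0, 0, 0],
  [0, 8, 0, 0, 0, 0, 0, 0, 0, 0, 0, 0, 0, 0, 0, 0, 0, 0, 0, 0, 0, 0, 0, 0],
  [0, 0, 0, 0, 0, 0, 0, 0, 0, 8, 0, 0, 0, 0, 0, 0, 0, 0, 0, 0, 0, 0, 0, 0],
  [0, 0, 0, 8, 0, 0, 0, 0, 0, 0, 0, 0, 0, 0, 0, 0, 0, 0, 0, 0, 0, 0, 0, 0],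
  [0, 0, 0, 0, 0, 0, 0, 0, -8, 0, 0, 0, 0, 0, 0, 0, 0, 0, 0, 0, 0, 0, 0, 0],
  [0, 0, 0, 0, 0, 0, 0, 0, 0, 0, 0, 0, 0, 0, 0, 0, 0, 0, 0, 0, 0, 0, 0, 8],
  [0, 0, 0, 0, 0, 0, 8, 0, 0, 0, 0, 0, 0, 0, 0, 0, 0, 0, 0, 0, 0, 0, 0, 0],
  [0, 0, 0, 0, 0, 8, 0, 0, 0, 0, 0, 0, 0, 0, 0, 0, 0, 0, 0, 0, 0, 0, 0, 0],
  [0, 0, 0, 0, 0, 0, 0, 0, 0, 0, 0, 0, 0, 0, 0, 8, 0, 0, 0, 0, 0, 0, 0, 0],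
  [0, 0, 0, 0, 0, 0, 0, 0, 0, 0, 0, 0, 0, 0, 0, 0, 0, 0, 0, 0, 0, 0, 8, 0],
  [0, 0, 0, 0, 0, 0, 0, 0, 0, 0, 0, 0, 0, 0, 0, 0, 0, 0, 0, 0, -8, 0, 0, 0],
  [0, 0, 0, 0, 0, 0, 0, 0, 0, 0, 0, 8, 0, 0, 0, 0, 0, 0, 0, 0, 0, 0, 0, 0],
  [0, 0, 0, 0, 0, 0, 0, 0, 0, 0, 0, 0, 8, 0, 0, 0, 0, 0, 0, 0, 0, 0, 0, 0],
  [0, 0, 0, 0, 0, 0, 0, 0, 0, 0, 0, 0, 0, 0, 0, 0, 0, -8, 0, 0, 0, 0, 0, 0],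
  [0, 0, 0, 0, 0, 0, 0, 0, 0, 0, 0, 0, 0, 0, 0, 0, 0, 0, -8, 0, 0, 0, 0, 0],
  [0, 0, 0, 0, -8, 0, 0, 0, 0, 0, 0, 0, 0, 0, 0, 0, 0, 0, 0, 0, 0, 0, 0, 0],
  [0, 0, 0, 0, 0, 0, 0, 0, 0, 0, 0, 0, 0, 8, 0, 0, 0, 0, 0, 0, 0, 0, 0, 0],
  [0, 0, 0, 0, 0, 0, 0, 0, 0, 0, 0, 0, 0, 0, 0, 0, -8, 0, 0, 0, 0, 0, 0, 0],
  [0, 0, 0, 0, 0, 0, 0, 0, 0, 0, 0, 0, 0, 0, 0, 0, 0, 0, 0, 8, 0, 0, 0, 0],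
  [0, 0, 0, 0, 0, 0, 0, 0, 0, 0, 0, 0, 0, 0, -8, 0, 0, 0, 0, 0, 0, 0, 0, 0],
  [0, 0, 0, 0, 0, 0, 0, 0, 0, 0, 0, 0, 0, 0, 0, 0, 0, 0, 0, 0, 0, 8, 0, 0],
  [0, 0, 0, 0, 0, 0, 0, 0, 0, 0, -8, 0, 0, 0, 0, 0, 0, 0, 0, 0, 0, 0, 0, 0],
  [0, 0, 8, 0, 0, 0, 0, 0, 0, 0, 0, 0, 0, 0, 0, 0, 0, 0, 0, 0, 0, 0, 0, 0],
  [0, 0, 0, 0, 0, 0, 0, 8, 0, 0, 0, 0, 0, 0, 0, 0, 0, 0, 0, 0, 0, 0, 0, 0]]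

theorem okN2 : Ok N2 (tr N2) := Cfsg.Agent.CoOneType.CoFast.ok_of_okZ (by decide +kernel)

/-- matrix -/
def N3 : List (List ℤ) := [
  [2, 0, -2, 0, 0, -2, 0, -2, 0, -2, 0, 0, -6, 0, 0, 0, 0, 0, 0, 0, 0, 0, -2, -2],
  [0, 2, 0, 2, -2, 0, 2, 0, 2, 0, -2, -2, 0, 2, 2, 2, 2, -2, -2, -2, 2, 2, 0, 0],
  [2, 0, -2, 0, 0, -2, 0, -2, 0, 6, 0, 0, 2, 0, 0, 0, 0, 0, 0, 0, 0, 0, -2, -2],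
  [0, -2, 0, 2, 2, 0, -2, 0, -2, 0, -2, -2, 0, -2, 2, -2, -2, 2, -2, -2, 2, 2, 0, 0],
  [0, 2, 0, 2, -2, 0, 2, 0, -2, 0, -2, -2, 0, -2, 2, -2, -2, -2, 2, 2, -2, -2, 0, 0],
  [2, 0, -2, 0, 0, -2, 0, 6, 0, -2, 0, 0, 2, 0, 0, 0, 0, 0, 0, 0, 0, 0, -2, -2],
  [0, -2, 0, 2, 2, 0, 2, 0, -2, 0, -2, 2, 0, 2, -2, -2, 2, -2, 2, 2, 2, 2, 0, 0],
  [2, 0, -2, 0, 0, -2, 0, -2, 0, -2, 0, 0, 2, 0, 0, 0, 0, 0, 0, 0, 0, 0, -2, 6],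
  [0, -2, 0, -2, -2, 0, -2, 0, -2, 0, -2, 2, 0, 2, 2, 2, -2, -2, 2, -2, -2, 2, 0, 0],
  [2, 0, -2, 0, 0, -2, 0, -2, 0, -2, 0, 0, 2, 0, 0, 0, 0, 0, 0, 0, 0, 0, 6, -2],
  [0, -2, 0, 2, 2, 0, -2, 0, 2, 0, -2, -2, 0, 2, 2, 2, 2, 2, 2, 2, -2, -2, 0, 0],
  [0, 2, 0, 2, -2, 0, -2, 0, 2, 0, -2, 2, 0, -2, -2, 2, -2, 2, 2, 2, 2, 2, 0, 0],
  [-6, 0, -2, 0, 0, -2, 0, -2, 0, -2, 0, 0, 2, 0, 0, 0, 0, 0, 0, 0, 0, 0, -2, -2],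
  [0, 2, 0, -2, 2, 0, -2, 0, -2, 0, -2, -2, 0, -2, -2, 2, 2, -2, 2, -2, 2, -2, 0, 0],
  [0, 2, 0, 2, -2, 0, -2, 0, -2, 0, -2, 2, 0, 2, -2, -2, 2, 2, -2, -2, -2, -2, 0, 0],
  [0, -2, 0, -2, -2, 0, -2, 0, 2, 0, -2, 2, 0, -2, 2, -2, 2, -2, -2, 2, 2, -2, 0, 0],
  [0, 2, 0, -2, 2, 0, -2, 0, 2, 0, -2, -2, 0, 2, -2, -2, -2, -2, -2, 2, -2, 2, 0, 0],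
  [0, -2, 0, 2, 2, 0, 2, 0, 2, 0, -2, 2, 0, -2, -2, 2, -2, -2, -2, -2, -2, -2, 0, 0],
  [0, -2, 0, -2, -2, 0, 2, 0, -2, 0, -2, -2, 0, -2, -2, 2, 2, 2, -2, 2, -2, 2, 0, 0],
  [0, -2, 0, -2, -2, 0, 2, 0, 2, 0, -2, -2, 0, 2, -2, -2, -2, 2, 2, -2, 2, -2, 0, 0],
  [0, 2, 0, -2, 2, 0, 2, 0, 2, 0, -2, 2, 0, -2, 2, -2, 2, 2, 2, -2, -2, 2, 0, 0],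
  [0, 2, 0, -2, 2, 0, 2, 0, -2, 0, -2, 2, 0, 2, 2, 2, -2, 2, -2, 2, 2, -2, 0, 0],
  [2, 0, 6, 0, 0, -2, 0, -2, 0, -2, 0, 0, 2, 0, 0, 0, 0, 0, 0, 0, 0, 0, -2, -2],
  [2, 0, -2, 0, 0, 6, 0, -2, 0, -2, 0, 0, 2, 0, 0, 0, 0, 0, 0, 0, 0, 0, -2, -2]]

theorem okN3 : Ok N3 (tr N3) := Cfsg.Agent.CoOneType.CoFast.ok_of_okZ (by decide +kernel)

/-- matrix -/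
def N4 : List (List ℤ) := [
  [2, 2, 0, 0, 0, 0, 2, 0, 0, 0, -2, 2, 6, 0, 0, 0, 0, 0, 0, 0, 2, 2, 0, 0],
  [-2, 6, 0, 0, 0, 0, -2, 0, 0, 0, 2, -2, 2, 0, 0, 0, 0, 0, 0, 0, -2, -2, 0, 0],
  [0, 0, -2, -2, 2, 2, 0, 2, 2, 2, 0, 0, 0, 2, -2, 2, -2, -2, 2, -2, 0, 0, 2, 2],
  [0, 0, 2, 2, -2, -2, 0, -2, 2, 2, 0, 0, 0, 2, -2, 2, 2, -2, 2, 2, 0, 0, 2, -2],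
  [0, 0, -2, -2, 2, -2, 0, 2, -2, 2, 0, 0, 0, 2, 2, -2, 2, 2, 2, 2, 0, 0, 2, -2],
  [0, 0, 2, 2, 2, -2, 0, 2, 2, 2, 0, 0, 0, -2, 2, -2, -2, -2, -2, 2, 0, 0, 2, 2],
  [-2, -2, 0, 0, 0, 0, 6, 0, 0, 0, 2, -2, 2, 0, 0, 0, 0, 0, 0, 0, -2, -2, 0, 0],
  [0, 0, 2, 2, -2, 2, 0, -2, -2, 2, 0, 0, 0, 2, 2, -2, -2, 2, 2, -2, 0, 0, 2, 2],
  [0, 0, -2, 2, -2, -2, 0, 2, 2, 2, 0, 0, 0, -2, 2, 2, 2, 2, 2, -2, 0, 0, -2, 2],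
  [0, 0, 2, -2, -2, 2, 0, 2, -2, -2, 0, 0, 0, -2, 2, 2, 2, -2, 2, 2, 0, 0, 2, 2],
  [2, 2, 0, 0, 0, 0, 2, 0, 0, 0, 6, 2, -2, 0, 0, 0, 0, 0, 0, 0, 2, 2, 0, 0],
  [-2, -2, 0, 0, 0, 0, -2, 0, 0, 0, 2, 6, 2, 0, 0, 0, 0, 0, 0, 0, -2, -2, 0, 0],
  [6, -2, 0, 0, 0, 0, -2, 0, 0, 0, 2, -2, 2, 0, 0, 0, 0, 0, 0, 0, -2, -2, 0, 0],
  [0, 0, -2, 2, 2, 2, 0, -2, -2, 2, 0, 0, 0, 2, 2, 2, 2, -2, -2, 2, 0, 0, -2, 2],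
  [0, 0, 2, -2, 2, -2, 0, -2, 2, -2, 0, 0, 0, 2, 2, 2, 2, 2, -2, -2, 0, 0, 2, 2],
  [0, 0, -2, 2, -2, 2, 0, 2, 2, -2, 0, 0, 0, 2, 2, 2, -2, 2, -2, 2, 0, 0, 2, -2],
  [0, 0, 2, 2, 2, 2, 0, 2, 2, -2, 0, 0, 0, 2, 2, -2, 2, -2, 2, -2, 0, 0, -2, -2],
  [0, 0, 2, -2, 2, 2, 0, -2, 2, 2, 0, 0, 0, -2, 2, 2, -2, 2, 2, 2, 0, 0, -2, -2],
  [0, 0, -2, 2, 2, 2, 0, -2, 2, -2, 0, 0, 0, -2, -2, -2, 2, 2, 2, 2, 0, 0, 2, 2],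
  [0, 0, 2, 2, 2, -2, 0, 2, -2, -2, 0, 0, 0, 2, -2, 2, -2, 2, 2, 2, 0, 0, -2, 2],
  [-2, -2, 0, 0, 0, 0, -2, 0, 0, 0, 2, -2, 2, 0, 0, 0, 0, 0, 0, 0, 6, -2, 0, 0],
  [-2, -2, 0, 0, 0, 0, -2, 0, 0, 0, 2, -2, 2, 0, 0, 0, 0, 0, 0, 0, -2, 6, 0, 0],
  [0, 0, 2, -2, -2, 2, 0, 2, 2, 2, 0, 0, 0, 2, -2, -2, 2, 2, -2, 2, 0, 0, -2, 2],
  [0, 0, 2, 2, 2, 2, 0, 2, -2, 2, 0, 0, 0, -2, -2, 2, 2, 2, -2, -2, 0, 0, 2, -2]]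

theorem okN4 : Ok N4 (tr N4) := Cfsg.Agent.CoOneType.CoFast.ok_of_okZ (by decide +kernel)

/-- matrix -/
def N5 : List (List ℤ) := [
  [2, 2, 0, 0, 0, 0, 2, 0, 0, 0, 2, 2, -6, 0, 0, 0, 0, 0, 0, 0, -2, -2, 0, 0],
  [-2, 6, 0, 0, 0, 0, -2, 0, 0, 0, -2, -2, -2, 0, 0, 0, 0, 0, 0, 0, 2, 2, 0, 0],
  [0, 0, -2, -2, -2, -2, 0, -2, -2, 2, 0, 0, 0, -2, 2, -2, 2, 2, -2, 2, 0, 0, 2, -2],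
  [0, 0, 2, 2, 2, 2, 0, 2, -2, 2, 0, 0, 0, -2, 2, -2, -2, 2, -2, -2, 0, 0, 2, 2],
  [0, 0, 2, 2, 2, -2, 0, 2, -2, -2, 0, 0, 0, 2, 2, -2, 2, 2, 2, 2, 0, 0, -2, -2],
  [0, 0, -2, -2, 2, -2, 0, 2, 2, -2, 0, 0, 0, -2, 2, -2, -2, -2, -2, 2, 0, 0, -2, 2],
  [-2, -2, 0, 0, 0, 0, 6, 0, 0, 0, -2, -2, -2, 0, 0, 0, 0, 0, 0, 0, 2, 2, 0, 0],
  [0, 0, -2, -2, -2, 2, 0, -2, -2, -2, 0, 0, 0, 2, 2, -2, -2, 2, 2, -2, 0, 0, -2, 2],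
  [0, 0, 2, -2, -2, -2, 0, 2, 2, -2, 0, 0, 0, -2, 2, 2, 2, 2, 2, -2, 0, 0, 2, 2],
  [0, 0, 2, -2, 2, -2, 0, -2, 2, -2, 0, 0, 0, 2, -2, -2, -2, 2, -2, -2, 0, 0, 2, -2],
  [-2, -2, 0, 0, 0, 0, -2, 0, 0, 0, 6, -2, -2, 0, 0, 0, 0, 0, 0, 0, 2, 2, 0, 0],
  [-2, -2, 0, 0, 0, 0, -2, 0, 0, 0, -2, 6, -2, 0, 0, 0, 0, 0, 0, 0, 2, 2, 0, 0],
  [-6, 2, 0, 0, 0, 0, 2, 0, 0, 0, 2, 2, 2, 0, 0, 0, 0, 0, 0, 0, -2, -2, 0, 0],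
  [0, 0, 2, -2, 2, 2, 0, -2, -2, -2, 0, 0, 0, 2, 2, 2, 2, -2, -2, 2, 0, 0, 2, 2],
  [0, 0, -2, 2, 2, -2, 0, -2, 2, 2, 0, 0, 0, 2, 2, 2, 2, 2, -2, -2, 0, 0, -2, 2],
  [0, 0, 2, -2, -2, 2, 0, 2, 2, 2, 0, 0, 0, 2, 2, 2, -2, 2, -2, 2, 0, 0, -2, -2],
  [0, 0, -2, -2, 2, 2, 0, 2, 2, 2, 0, 0, 0, 2, 2, -2, 2, -2, 2, -2, 0, 0, 2, -2],
  [0, 0, -2, 2, 2, 2, 0, -2, 2, -2, 0, 0, 0, -2, 2, 2, -2, 2, 2, 2, 0, 0, 2, -2],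
  [0, 0, 2, -2, 2, 2, 0, -2, 2, 2, 0, 0, 0, -2, -2, -2, 2, 2, 2, 2, 0, 0, -2, 2],
  [0, 0, -2, -2, 2, -2, 0, 2, -2, 2, 0, 0, 0, 2, -2, 2, -2, 2, 2, 2, 0, 0, 2, 2],
  [2, 2, 0, 0, 0, 0, 2, 0, 0, 0, 2, 2, 2, 0, 0, 0, 0, 0, 0, 0, 6, -2, 0, 0],
  [2, 2, 0, 0, 0, 0, 2, 0, 0, 0, 2, 2, 2, 0, 0, 0, 0, 0, 0, 0, -2, 6, 0, 0],
  [0, 0, 2, -2, 2, -2, 0, -2, -2, 2, 0, 0, 0, -2, 2, 2, -2, -2, 2, -2, 0, 0, -2, -2],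
  [0, 0, -2, -2, 2, 2, 0, 2, -2, -2, 0, 0, 0, -2, -2, 2, 2, 2, -2, -2, 0, 0, -2, -2]]

theorem okN5 : Ok N5 (tr N5) := Cfsg.Agent.CoOneType.CoFast.ok_of_okZ (by decide +kernel)

end Cfsg.Agent.H956.Co1P
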