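import Cfsg.Agent.LThreeCo1.Ev

/-!
# Explicit elements of `Co0` (helper956; generated)
-/

set_option autoImplicit false
set_option maxRecDepth 20000

namespace Cfsg.Agent.H956.Co1P

open Cfsg.Agent.LThreeCo1.Ev Cfsg.Agent.SporadicStructure.Co0Matrix Cfsg.Agent.CoOneType.CoEval

/-- matrix -/
def N6 : List (List ℤ) := [
  [-4, 0, 4, 0, 0, 0, 0, 0, 0, 4, 0, 0, 0, 0, 0, 0, 0, 0, 0, 0, 0, 0, 4, 0],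
  [0, -4, 0, -4, 0, 0, 4, 0, 0, 0, 0, -4, 0, 0, 0, 0, 0, 0, 0, 0, 0, 0, 0, 0],
  [-4, 0, -4, 0, 0, 0, 0, 0, 0, -4, 0, 0, 0, 0, 0, 0, 0, 0, 0, 0, 0, 0, 4, 0],
  [0, 4, 0, -4, 0, 0, 4, 0, 0, 0, 0, 4, 0, 0, 0, 0, 0, 0, 0, 0, 0, 0, 0, 0],
  [0, 0, 0, 0, -4, 0, 0, 0, 0, 0, -4, 0, 0, 0, -4, 0, 0, 4, 0, 0, 0, 0, 0, 0],
  [0, 0, 0, 0, 0, -4, 0, -4, 0, 0, 0, 0, -4, 0, 0, 0, 0, 0, 0, 0, 0, 0, 0, 4],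
  [0, -4, 0, -4, 0, 0, -4, 0, 0, 0, 0, 4, 0, 0, 0, 0, 0, 0, 0, 0, 0, 0, 0, 0],
  [0, 0, 0, 0, 0, 4, 0, -4, 0, 0, 0, 0, -4, 0, 0, 0, 0, 0, 0, 0, 0, 0, 0, -4],
  [0, 0, 0, 0, 0, 0, 0, 0, -4, 0, 0, 0, 0, 0, 0, 0, 4, 0, -4, 0, -4, 0, 0, 0],
  [-4, 0, 4, 0, 0, 0, 0, 0, 0, -4, 0, 0, 0, 0, 0, 0, 0, 0, 0, 0, 0, 0, -4, 0],
  [0, 0, 0, 0, 4, 0, 0, 0, 0, 0, -4, 0, 0, 0, 4, 0, 0, 4, 0, 0, 0, 0, 0, 0],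
  [0, 4, 0, -4, 0, 0, -4, 0, 0, 0, 0, -4, 0, 0, 0, 0, 0, 0, 0, 0, 0, 0, 0, 0],
  [0, 0, 0, 0, 0, 4, 0, 4, 0, 0, 0, 0, -4, 0, 0, 0, 0, 0, 0, 0, 0, 0, 0, 4],
  [0, 0, 0, 0, 0, 0, 0, 0, 0, 0, 0, 0, 0, -4, 0, -4, 0, 0, 0, 4, 0, -4, 0, 0],
  [0, 0, 0, 0, 4, 0, 0, 0, 0, 0, -4, 0, 0, 0, -4, 0, 0, -4, 0, 0, 0, 0, 0, 0],
  [0, 0, 0, 0, 0, 0, 0, 0, 0, 0, 0, 0, 0, 4, 0, -4, 0, 0, 0, -4, 0, -4, 0, 0],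
  [0, 0, 0, 0, 0, 0, 0, 0, -4, 0, 0, 0, 0, 0, 0, 0, -4, 0, 4, 0, -4, 0, 0, 0],
  [0, 0, 0, 0, -4, 0, 0, 0, 0, 0, -4, 0, 0, 0, 4, 0, 0, -4, 0, 0, 0, 0, 0, 0],
  [0, 0, 0, 0, 0, 0, 0, 0, 4, 0, 0, 0, 0, 0, 0, 0, -4, 0, -4, 0, -4, 0, 0, 0],
  [0, 0, 0, 0, 0, 0, 0, 0, 0, 0, 0, 0, 0, -4, 0, 4, 0, 0, 0, -4, 0, -4, 0, 0],
  [0, 0, 0, 0, 0, 0, 0, 0, 4, 0, 0, 0, 0, 0, 0, 0, 4, 0, 4, 0, -4, 0, 0, 0],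
  [0, 0, 0, 0, 0, 0, 0, 0, 0, 0, 0, 0, 0, 4, 0, 4, 0, 0, 0, 4, 0, -4, 0, 0],
  [-4, 0, -4, 0, 0, 0, 0, 0, 0, 4, 0, 0, 0, 0, 0, 0, 0, 0, 0, 0, 0, 0, -4, 0],
  [0, 0, 0, 0, 0, -4, 0, 4, 0, 0, 0, 0, -4, 0, 0, 0, 0, 0, 0, 0, 0, 0, 0, -4]]

theorem okN6 : Ok N6 (tr N6) := Cfsg.Agent.CoOneType.CoFast.ok_of_okZ (by decide +kernel)

/-- matrix -/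
def N7 : List (List ℤ) := [
  [4, 0, 0, 0, 0, 0, 0, -4, 0, 0, 0, 0, 4, 0, 0, 0, 0, 0, 0, 0, 0, 0, 0, 4],
  [0, 4, 0, 0, 0, 0, 0, 0, 0, 0, 0, 0, 0, -4, -4, 0, 0, 0, 0, 0, -4, 0, 0, 0],
  [4, 0, 0, 0, 0, 0, 0, 4, 0, 0, 0, 0, -4, 0, 0, 0, 0, 0, 0, 0, 0, 0, 0, 4],
  [0, 0, 0, 4, 0, 0, 0, 0, 4, 0, 0, 0, 0, 0, 0, 0, 0, -4, 0, 4, 0, 0, 0, 0],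
  [0, 0, 0, 0, 4, 0, 0, 0, 0, 0, 0, 4, 0, 0, 0, 0, -4, 0, 0, 0, 0, 4, 0, 0],
  [0, 0, 4, 0, 0, 4, 0, 0, 0, 4, 0, 0, 0, 0, 0, 0, 0, 0, 0, 0, 0, 0, -4, 0],
  [0, 0, 0, 0, 0, 0, 4, 0, 0, 0, 4, 0, 0, 0, 0, 4, 0, 0, -4, 0, 0, 0, 0, 0],
  [0, 0, -4, 0, 0, 4, 0, 0, 0, 4, 0, 0, 0, 0, 0, 0, 0, 0, 0, 0, 0, 0, 4, 0],
  [0, 0, 0, 0, 0, 0, 4, 0, 0, 0, -4, 0, 0, 0, 0, 4, 0, 0, 4, 0, 0, 0, 0, 0],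
  [-4, 0, 0, 0, 0, 0, 0, 4, 0, 0, 0, 0, 4, 0, 0, 0, 0, 0, 0, 0, 0, 0, 0, 4],
  [0, 0, 0, 0, 0, 0, 4, 0, 0, 0, 4, 0, 0, 0, 0, -4, 0, 0, 4, 0, 0, 0, 0, 0],
  [0, 0, 0, 0, 4, 0, 0, 0, 0, 0, 0, 4, 0, 0, 0, 0, 4, 0, 0, 0, 0, -4, 0, 0],
  [4, 0, 0, 0, 0, 0, 0, 4, 0, 0, 0, 0, 4, 0, 0, 0, 0, 0, 0, 0, 0, 0, 0, -4],
  [0, 0, 0, 0, -4, 0, 0, 0, 0, 0, 0, 4, 0, 0, 0, 0, 4, 0, 0, 0, 0, 4, 0, 0],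
  [0, -4, 0, 0, 0, 0, 0, 0, 0, 0, 0, 0, 0, -4, 4, 0, 0, 0, 0, 0, -4, 0, 0, 0],
  [0, 0, 0, 4, 0, 0, 0, 0, 4, 0, 0, 0, 0, 0, 0, 0, 0, 4, 0, -4, 0, 0, 0, 0],
  [0, -4, 0, 0, 0, 0, 0, 0, 0, 0, 0, 0, 0, 4, -4, 0, 0, 0, 0, 0, -4, 0, 0, 0],
  [0, 0, 0, -4, 0, 0, 0, 0, 4, 0, 0, 0, 0, 0, 0, 0, 0, 4, 0, 4, 0, 0, 0, 0],
  [0, 0, 0, 4, 0, 0, 0, 0, -4, 0, 0, 0, 0, 0, 0, 0, 0, 4, 0, 4, 0, 0, 0, 0],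
  [0, 0, 0, 0, 0, 0, -4, 0, 0, 0, 4, 0, 0, 0, 0, 4, 0, 0, 4, 0, 0, 0, 0, 0],
  [0, 0, 0, 0, 4, 0, 0, 0, 0, 0, 0, -4, 0, 0, 0, 0, 4, 0, 0, 0, 0, 4, 0, 0],
  [0, -4, 0, 0, 0, 0, 0, 0, 0, 0, 0, 0, 0, -4, -4, 0, 0, 0, 0, 0, 4, 0, 0, 0],
  [0, 0, 4, 0, 0, -4, 0, 0, 0, 4, 0, 0, 0, 0, 0, 0, 0, 0, 0, 0, 0, 0, 4, 0],
  [0, 0, 4, 0, 0, 4, 0, 0, 0, -4, 0, 0, 0, 0, 0, 0, 0, 0, 0, 0, 0, 0, 4, 0]]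

theorem okN7 : Ok N7 (tr N7) := Cfsg.Agent.CoOneType.CoFast.ok_of_okZ (by decide +kernel)

/-- matrix -/
def N8 : List (List ℤ) := [
  [2, -2, 0, 2, 0, 0, 0, 0, 0, 0, 0, 2, -6, 2, 0, 0, 2, -2, 0, 0, 0, 0, 0, 0],
  [2, 6, 0, 2, 0, 0, 0, 0, 0, 0, 0, 2, 2, 2, 0, 0, 2, -2, 0, 0, 0, 0, 0, 0],
  [0, 0, -2, 0, -2, -2, 2, -2, 2, 2, 2, 0, 0, 0, -2, -2, 0, 0, -2, -2, 2, -2, 2, -2],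
  [-2, 2, 0, 6, 0, 0, 0, 0, 0, 0, 0, -2, -2, -2, 0, 0, -2, 2, 0, 0, 0, 0, 0, 0],
  [0, 0, 2, 0, 2, 2, 2, 2, -2, -2, -2, 0, 0, 0, -2, -2, 0, 0, -2, -2, -2, -2, 2, -2],
  [0, 0, -2, 0, -2, -2, 2, 2, 2, -2, -2, 0, 0, 0, 2, -2, 0, 0, 2, -2, -2, -2, -2, 2],
  [0, 0, -2, 0, 2, -2, 2, -2, -2, -2, -2, 0, 0, 0, -2, -2, 0, 0, 2, 2, 2, 2, -2, -2],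
  [0, 0, -2, 0, -2, 2, 2, -2, -2, -2, 2, 0, 0, 0, -2, 2, 0, 0, -2, -2, -2, 2, -2, 2],
  [0, 0, -2, 0, -2, -2, -2, 2, 2, -2, -2, 0, 0, 0, -2, 2, 0, 0, -2, 2, -2, 2, 2, -2],
  [0, 0, 2, 0, 2, -2, 2, -2, 2, -2, 2, 0, 0, 0, 2, 2, 0, 0, 2, -2, -2, 2, 2, -2],
  [0, 0, -2, 0, -2, 2, -2, -2, -2, -2, 2, 0, 0, 0, 2, -2, 0, 0, 2, 2, -2, -2, 2, -2],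
  [-2, 2, 0, -2, 0, 0, 0, 0, 0, 0, 0, 6, -2, -2, 0, 0, -2, 2, 0, 0, 0, 0, 0, 0],
  [-6, -2, 0, 2, 0, 0, 0, 0, 0, 0, 0, 2, 2, 2, 0, 0, 2, -2, 0, 0, 0, 0, 0, 0],
  [-2, 2, 0, -2, 0, 0, 0, 0, 0, 0, 0, -2, -2, 6, 0, 0, -2, 2, 0, 0, 0, 0, 0, 0],
  [0, 0, 2, 0, -2, -2, -2, 2, -2, -2, 2, 0, 0, 0, 2, -2, 0, 0, -2, -2, 2, 2, -2, -2],
  [0, 0, 2, 0, -2, 2, -2, -2, 2, -2, -2, 0, 0, 0, -2, 2, 0, 0, 2, -2, 2, -2, -2, -2],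
  [-2, 2, 0, -2, 0, 0, 0, 0, 0, 0, 0, -2, -2, -2, 0, 0, 6, 2, 0, 0, 0, 0, 0, 0],
  [2, -2, 0, 2, 0, 0, 0, 0, 0, 0, 0, 2, 2, 2, 0, 0, 2, 6, 0, 0, 0, 0, 0, 0],
  [0, 0, 2, 0, -2, -2, 2, 2, -2, -2, 2, 0, 0, 0, -2, 2, 0, 0, 2, 2, 2, -2, 2, 2],
  [0, 0, 2, 0, -2, 2, 2, 2, 2, 2, 2, 0, 0, 0, -2, -2, 0, 0, 2, 2, -2, 2, -2, -2],
  [0, 0, -2, 0, -2, 2, 2, 2, -2, 2, -2, 0, 0, 0, 2, 2, 0, 0, 2, -2, 2, 2, 2, -2],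
  [0, 0, 2, 0, -2, 2, 2, -2, 2, -2, -2, 0, 0, 0, 2, -2, 0, 0, -2, 2, 2, 2, 2, 2],
  [0, 0, 2, 0, -2, -2, 2, -2, -2, 2, -2, 0, 0, 0, 2, 2, 0, 0, -2, 2, -2, -2, -2, -2],
  [0, 0, -2, 0, 2, 2, 2, 2, 2, -2, 2, 0, 0, 0, 2, 2, 0, 0, -2, 2, 2, -2, -2, -2]]

theorem okN8 : Ok N8 (tr N8) := Cfsg.Agent.CoOneType.CoFast.ok_of_okZ (by decide +kernel)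

/-- matrix -/
def N9 : List (List ℤ) := [
  [2, -2, 0, 2, 0, 0, 0, 0, 0, 0, 0, 2, 6, -2, 0, 0, -2, 2, 0, 0, 0, 0, 0, 0],
  [2, 6, 0, 2, 0, 0, 0, 0, 0, 0, 0, 2, -2, -2, 0, 0, -2, 2, 0, 0, 0, 0, 0, 0],
  [0, 0, -2, 0, 2, 2, 2, 2, -2, 2, -2, 0, 0, 0, 2, 2, 0, 0, 2, 2, -2, 2, 2, 2],
  [-2, 2, 0, 6, 0, 0, 0, 0, 0, 0, 0, -2, 2, 2, 0, 0, 2, -2, 0, 0, 0, 0, 0, 0],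
  [0, 0, -2, 0, 2, 2, -2, 2, -2, 2, -2, 0, 0, 0, -2, -2, 0, 0, -2, -2, -2, -2, -2, -2],
  [0, 0, 2, 0, -2, -2, -2, 2, 2, 2, -2, 0, 0, 0, 2, -2, 0, 0, 2, -2, -2, -2, 2, 2],
  [0, 0, -2, 0, -2, 2, 2, 2, 2, -2, 2, 0, 0, 0, 2, 2, 0, 0, -2, -2, -2, -2, -2, 2],
  [0, 0, 2, 0, -2, 2, -2, -2, -2, 2, 2, 0, 0, 0, -2, 2, 0, 0, -2, -2, -2, 2, 2, 2],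
  [0, 0, 2, 0, -2, -2, 2, 2, 2, 2, -2, 0, 0, 0, -2, 2, 0, 0, -2, 2, -2, 2, -2, -2],
  [0, 0, 2, 0, -2, 2, 2, 2, -2, -2, -2, 0, 0, 0, -2, -2, 0, 0, -2, 2, 2, -2, 2, 2],
  [0, 0, 2, 0, -2, 2, 2, -2, -2, 2, 2, 0, 0, 0, 2, -2, 0, 0, 2, 2, -2, -2, -2, -2],
  [-2, 2, 0, -2, 0, 0, 0, 0, 0, 0, 0, 6, 2, 2, 0, 0, 2, -2, 0, 0, 0, 0, 0, 0],
  [6, 2, 0, -2, 0, 0, 0, 0, 0, 0, 0, -2, 2, 2, 0, 0, 2, -2, 0, 0, 0, 0, 0, 0],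
  [2, -2, 0, 2, 0, 0, 0, 0, 0, 0, 0, 2, -2, 6, 0, 0, -2, 2, 0, 0, 0, 0, 0, 0],
  [0, 0, -2, 0, -2, -2, 2, 2, -2, 2, 2, 0, 0, 0, 2, -2, 0, 0, -2, -2, 2, 2, 2, -2],
  [0, 0, -2, 0, -2, 2, 2, -2, 2, 2, -2, 0, 0, 0, -2, 2, 0, 0, 2, -2, 2, -2, 2, -2],
  [2, -2, 0, 2, 0, 0, 0, 0, 0, 0, 0, 2, -2, -2, 0, 0, 6, 2, 0, 0, 0, 0, 0, 0],
  [-2, 2, 0, -2, 0, 0, 0, 0, 0, 0, 0, -2, 2, 2, 0, 0, 2, 6, 0, 0, 0, 0, 0, 0],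
  [0, 0, -2, 0, -2, -2, -2, 2, -2, 2, 2, 0, 0, 0, -2, 2, 0, 0, 2, 2, 2, -2, -2, 2],
  [0, 0, -2, 0, -2, 2, -2, 2, 2, -2, 2, 0, 0, 0, -2, -2, 0, 0, 2, 2, -2, 2, 2, -2],
  [0, 0, 2, 0, -2, 2, -2, 2, -2, -2, -2, 0, 0, 0, 2, 2, 0, 0, 2, -2, 2, 2, -2, -2],
  [0, 0, -2, 0, -2, 2, -2, -2, 2, 2, -2, 0, 0, 0, 2, -2, 0, 0, -2, 2, 2, 2, -2, 2],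
  [0, 0, 2, 0, 2, 2, 2, 2, 2, 2, 2, 0, 0, 0, -2, -2, 0, 0, 2, -2, 2, 2, -2, 2],
  [0, 0, 2, 0, 2, 2, -2, 2, 2, 2, 2, 0, 0, 0, 2, 2, 0, 0, -2, 2, 2, -2, 2, -2]]

theorem okN9 : Ok N9 (tr N9) := Cfsg.Agent.CoOneType.CoFast.ok_of_okZ (by decide +kernel)

/-- matrix -/
def N10 : List (List ℤ) := [
  [8, 0, 0, 0, 0, 0, 0, 0, 0, 0, 0, 0, 0, 0, 0, 0, 0, 0, 0, 0, 0, 0, 0, 0],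
  [0, 0, 0, 0, 0, 0, 0, 0, 0, 0, 0, -8, 0, 0, 0, 0, 0, 0, 0, 0, 0, 0, 0, 0],
  [0, 0, 0, 0, 0, 0, 0, 0, 0, -8, 0, 0, 0, 0, 0, 0, 0, 0, 0, 0, 0, 0, 0, 0],
  [0, 0, 0, 8, 0, 0, 0, 0, 0, 0, 0, 0, 0, 0, 0, 0, 0, 0, 0, 0, 0, 0, 0, 0],
  [0, 0, 0, 0, 0, 0, 0, 0, 0, 0, 0, 0, 0, 0, 8, 0, 0, 0, 0, 0, 0, 0, 0, 0],
  [0, 0, 0, 0, 0, -8, 0, 0, 0, 0, 0, 0, 0, 0, 0, 0, 0, 0, 0, 0, 0, 0, 0, 0],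
  [0, 0, 0, 0, 0, 0, -8, 0, 0, 0, 0, 0, 0, 0, 0, 0, 0, 0, 0, 0, 0, 0, 0, 0],
  [0, 0, 0, 0, 0, 0, 0, 0, 0, 0, 0, 0, 0, 0, 0, 0, 0, 0, 0, 0, 0, 0, 0, -8],
  [0, 0, 0, 0, 0, 0, 0, 0, 0, 0, 0, 0, 0, 0, 0, 0, 0, 0, 0, 8, 0, 0, 0, 0],
  [0, 0, -8, 0, 0, 0, 0, 0, 0, 0, 0, 0, 0, 0, 0, 0, 0, 0, 0, 0, 0, 0, 0, 0],
  [0, 0, 0, 0, 0, 0, 0, 0, 0, 0, -8, 0, 0, 0, 0, 0, 0, 0, 0, 0, 0, 0, 0, 0],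
  [0, -8, 0, 0, 0, 0, 0, 0, 0, 0, 0, 0, 0, 0, 0, 0, 0, 0, 0, 0, 0, 0, 0, 0],
  [0, 0, 0, 0, 0, 0, 0, 0, 0, 0, 0, 0, 8, 0, 0, 0, 0, 0, 0, 0, 0, 0, 0, 0],
  [0, 0, 0, 0, 0, 0, 0, 0, 0, 0, 0, 0, 0, 0, 0, 0, 8, 0, 0, 0, 0, 0, 0, 0],
  [0, 0, 0, 0, 8, 0, 0, 0, 0, 0, 0, 0, 0, 0, 0, 0, 0, 0, 0, 0, 0, 0, 0, 0],
  [0, 0, 0, 0, 0, 0, 0, 0, 0, 0, 0, 0, 0, 0, 0, 0, 0, 0, 8, 0, 0, 0, 0, 0],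
  [0, 0, 0, 0, 0, 0, 0, 0, 0, 0, 0, 0, 0, 8, 0, 0, 0, 0, 0, 0, 0, 0, 0, 0],
  [0, 0, 0, 0, 0, 0, 0, 0, 0, 0, 0, 0, 0, 0, 0, 0, 0, 8, 0, 0, 0, 0, 0, 0],
  [0, 0, 0, 0, 0, 0, 0, 0, 0, 0, 0, 0, 0, 0, 0, 8, 0, 0, 0, 0, 0, 0, 0, 0],
  [0, 0, 0, 0, 0, 0, 0, 0, 8, 0, 0, 0, 0, 0, 0, 0, 0, 0, 0, 0, 0, 0, 0, 0],
  [0, 0, 0, 0, 0, 0, 0, 0, 0, 0, 0, 0, 0, 0, 0, 0, 0, 0, 0, 0, 0, -8, 0, 0],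
  [0, 0, 0, 0, 0, 0, 0, 0, 0, 0, 0, 0, 0, 0, 0, 0, 0, 0, 0, 0, -8, 0, 0, 0],
  [0, 0, 0, 0, 0, 0, 0, 0, 0, 0, 0, 0, 0, 0, 0, 0, 0, 0, 0, 0, 0, 0, -8, 0],
  [0, 0, 0, 0, 0, 0, 0, -8, 0, 0, 0, 0, 0, 0, 0, 0, 0, 0, 0, 0, 0, 0, 0, 0]]

theorem okN10 : Ok N10 (tr N10) := Cfsg.Agent.CoOneType.CoFast.ok_of_okZ (by decide +kernel)

end Cfsg.Agent.H956.Co1P
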