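import Cfsg.Agent.H956.Co1P.Gen
import Cfsg.Agent.H956.Co1P.MatA
import Cfsg.Agent.H956.Co1P.MatB
import Cfsg.Agent.H956.Co1P.MatC

/-!
The nine elements of `Co0` and the elements inducing `tor`, `w1`, `w2 2`, `w3` (helper956).
-/

set_option autoImplicit false
set_option maxRecDepth 20000
set_option linter.style.longLine false

namespace Cfsg.Agent.H956.Co1P

open Cfsg Cfsg.Agent.LThreeCo1.Ev Cfsg.Agent.SporadicStructure.Co0Matrix Cfsg.Agent.CoOneType.CoEval
open Cfsg.Agent.LThreeCo1.AGrp Cfsg.Agent.H776.Co Cfsg.Agent.H776.Co.P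
open Cfsg.Agent.H776.Co.Lin (tf tf_tf tf_zero)

/-- The matrices. -/
def M : ℕ → List (List ℤ)
  | 1 => N1
  | 2 => N2
  | 3 => N3
  | 4 => N4
  | 5 => N5
  | 6 => N6
  | 7 => N7
  | 8 => N8
  | 9 => N9
  | 10 => N10
  | 11 => N11
  | 12 => N12
  | 13 => N13
  | 14 => N14
  | 15 => N15
  | _ => N1

theorem okM (i : ℕ) : Ok (M i) (tr (M i)) := by
  unfold M
  split
  · exact okN1
  · exact okN2
  · exact okN3
  · exact okN4
  · exact okN5
  · exact okN6
  · exact okN7
  · exact okN8
  · exact okN9
  · exact okN10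
  · exact okN11
  · exact okN12
  · exact okN13
  · exact okN14
  · exact okN15
  · exact okN1

/-- The elements. -/
noncomputable def e (i : ℕ) : Co0 := mk (okM i)

theorem rep (i : ℕ) : Rep (e i) (M i) := rep_mk (okM i)

/-- The basis of `A`. -/
noncomputable def aa (i : Fin 6) : Co0 := e (i.val + 1)

/-- Words of elements of `A`. -/
def wv (v : V) : List ℕ :=
  List.replicate (v 0).val 1 ++ (List.replicate (v 1).val 2 ++ (List.replicate (v 2).val 3 ++
    (List.replicate (v 3).val 4 ++ (List.replicate (v 4).val 5 ++ List.replicate (v 5).val 6))))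

/-- Words of elements of `P`. -/
def wp (p : P) : List ℕ :=
  wv (vec p) ++ (List.replicate p.c.val 9 ++ (List.replicate p.b.val 8 ++ List.replicate p.a.val 7))

theorem wv_prod (v : V) : ((wv v).map e).prod = Ph aa v := by
  unfold wv Ph
  simp only [List.map_append, List.prod_append, List.map_replicate, List.prod_replicate]
  rfl

theorem wp_prod (p : P) : ((wp p).map e).prod = phi aa (e 7) (e 8) (e 9) p := by
  unfold wp phi tau
  rw [List.map_append, List.prod_append, wv_prod]
  simp only [List.map_append, List.prod_append, List.map_replicate, List.prod_replicate]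

theorem k_comm : ∀ i j : Fin 6, eqB M [i.val + 1, j.val + 1] [j.val + 1, i.val + 1] = true := by decide +kernel

theorem k_cube : ∀ i : Fin 9, eqB M [i.val + 1, i.val + 1, i.val + 1] [] = true := by decide +kernel

theorem k_xy : eqB M [7, 8] [9, 8, 7] = true := by decide +kernel
theorem k_xz : eqB M [7, 9] [9, 7] = true := by decide +kernel
theorem k_yz : eqB M [8, 9] [9, 8] = true := by decide +kernel
theorem k_ne : neB' M [1] [] = true := by decide +kernel

theorem k_x : ∀ j : Fin 6, eqB M [7, j.val + 1] (wv (tf 1 0 0 (Pi.single j 1)) ++ [7]) = true := by decide +kernel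
theorem k_y : ∀ j : Fin 6, eqB M [8, j.val + 1] (wv (tf 0 1 0 (Pi.single j 1)) ++ [8]) = true := by decide +kernel
theorem k_z : ∀ j : Fin 6, eqB M [9, j.val + 1] (wv (tf 0 0 1 (Pi.single j 1)) ++ [9]) = true := by decide +kernel

theorem cube (i : Fin 9) : e (i.val + 1) ^ 3 = 1 := by
  have h := eq_of_eqB rep (k_cube i)
  simpa [pow_succ, mul_assoc] using h

theorem conj_of {g : ℕ} {j : Fin 6} {v : V} (h : eqB M [g, j.val + 1] (wv v ++ [g]) = true) :
    e g * aa j * (e g)⁻¹ = Ph aa v := by
  have h1 := eq_of_eqB rep h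
  rw [List.map_append, List.prod_append, wv_prod] at h1
  rw [mul_inv_eq_iff_eq_mul]
  simpa [aa] using h1

theorem dat : Dat aa (e 7) (e 8) (e 9) where
  hyp :=
    { comm := fun i j => by
        have h := eq_of_eqB rep (k_comm i j)
        show aa i * aa j = aa j * aa i
        simpa [aa] using h
      cube := fun i => cube ⟨i.val, by omega⟩ }
  x3 := cube 6
  y3 := cube 7
  z3 := cube 8
  xy := by simpa using eq_of_eqB rep k_xy
  xz := by simpa using eq_of_eqB rep k_xz
  yz := by simpa using eq_of_eqB rep k_yz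
  cx j := conj_of (k_x j)
  cy j := conj_of (k_y j)
  cz j := conj_of (k_z j)
  ne := by
    have h := ne_of_neB' rep k_ne
    simpa [aa] using h

/-- The check of the action of `e g`. -/
def chk (f : P → P) (g : ℕ) (i : Fin 9) : Bool := eqB M (g :: wp (r i 1)) (wp (f (r i 1)) ++ [g])

theorem chk_spec {f : P → P} {g : ℕ} {i : Fin 9} (h : chk f g i = true) :
    dat.hom (f (r i 1)) = e g * dat.hom (r i 1) * (e g)⁻¹ := by
  have h1 := eq_of_eqB rep h
  rw [List.map_append, List.prod_append, List.map_cons, List.prod_cons, wp_prod, wp_prod] at h1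
  rw [dat.hom_apply, dat.hom_apply, eq_mul_inv_iff_mul_eq]
  simpa using h1.symm

theorem c_10 : ∀ i : Fin 9, chk (tor 1 1 (-1)) 10 i = true := by decide +kernel
theorem c_11 : ∀ i : Fin 9, chk (tor (-1) 1 1) 11 i = true := by decide +kernel
theorem c_12 : ∀ i : Fin 9, chk (tor 1 (-1) 1) 12 i = true := by decide +kernel
theorem c_13 : ∀ i : Fin 9, i ≠ 0 → chk w1 13 i = true := by decide +kernel
theorem c_14 : ∀ i : Fin 9, i ≠ 1 → chk (w2 2) 14 i = true := by decide +kernel
theorem c_15 : ∀ i : Fin 9, i ≠ 8 → chk w3 15 i = true := by decide +kernel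

end Cfsg.Agent.H956.Co1P
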